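import Cfsg.Agent.Lib.Helper54.JC45.Defs

set_option autoImplicit false

namespace Cfsg.Agent.Lib.Helper54.JC45

open Cfsg Subgroup
open Cfsg.Agent.Lib.Helper75.JC Cfsg.Agent.Lib.Helper53.JC Cfsg.Agent.Lib.Helper53
open Cfsg.Agent.Lib.Helper55 (SN)
open Cfsg.Agent.Lib.Helper15.ZJ (AE PE)

variable {G : Type*} [Group G]

theorem f_pRes {K J S : Subgroup G} (c : Ctx K J S) : Helper52.pResOf 2 K = K := by
  rw [← Helper37.oddGenerated_eq_pResOf]
  exact c.odd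

theorem f_R_le {K Y : Subgroup G} (s : SN K Y) : pCoreOf 2 K ≤ pCoreOf 2 Y :=
  Helper37.pCoreOf_le_of_rel_subnormal s.le s.isSubnormal

theorem f_Q_le_normK {K J S Y : Subgroup G} (c : Ctx K J S) (s : SN K Y) :
    pCoreOf 2 Y ≤ normalizer (K : Set G) :=
  Helper37.pCoreOf_le_normalizer_of_rel_subnormal s.le s.isSubnormal (f_pRes c)

theorem f_Q_le_cent [Finite G] {K J S Y : Subgroup G} (c : Ctx K J S) (s : SN K Y) :
    pCoreOf 2 Y ≤ centralizer (wOf K : Set G) := by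
  obtain ⟨Q, hQ⟩ : ∃ Q, Q = pCoreOf 2 Y := ⟨_, rfl⟩
  rw [← hQ]
  have hWQ : wOf K ≤ Q := hQ ▸ (Ctx.W_le_R K).trans (f_R_le s)
  have hQN : Q ≤ normalizer (wOf K : Set G) :=
    hQ ▸ (f_Q_le_normK c s).trans (normalizer_le_normalizer_wOf K)
  have hQp : IsPGroup 2 Q := hQ ▸ pCoreOf_isPGroup 2 Y
  have hn : ((wOf K).subgroupOf Q).Normal := (normal_subgroupOf_iff_le_normalizer hWQ).2 hQN
  have hne : (wOf K).subgroupOf Q ≠ ⊥ := by
    intro h
    rw [subgroupOf_eq_bot, disjoint_iff, inf_of_le_left hWQ] at h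
    have := c.four.card
    rw [h] at this
    simp at this
  obtain ⟨z, hz, hzc, hz1⟩ := Helper67.exists_mem_center_of_normal hQp _ hne
  have hzW : (z : G) ∈ wOf K := hz
  have hz1' : (z : G) ≠ 1 := fun h => hz1 (Subtype.ext h)
  have hfix : ∀ q ∈ Q, q * (z : G) * q⁻¹ = z := by
    intro q hq
    have h2 : q * (z : G) = z * q := congrArg Subtype.val (mem_center_iff.mp hzc ⟨q, hq⟩)
    rw [h2]; group
  obtain ⟨k, hkK, hodd, hkW⟩ := c.exists_k0
  have hkY : k ∈ Y := s.le hkK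
  have hkNQ : k ∈ normalizer (Q : Set G) := hQ ▸ le_normalizer_pCoreOf 2 Y hkY
  have hkNW : k ∈ normalizer (wOf K : Set G) :=
    (le_normalizer.trans (normalizer_le_normalizer_wOf K)) hkK
  have hz2W : k * (z : G) * k⁻¹ ∈ wOf K := Four.conj_mem hkNW hzW
  have hz2ne : k * (z : G) * k⁻¹ ≠ 1 := by
    intro h
    apply hz1'
    have : (z : G) = k⁻¹ * (k * (z : G) * k⁻¹) * k := by group
    rw [this, h]; group
  have hz12 : (z : G) ≠ k * (z : G) * k⁻¹ := by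
    intro h
    exact hz1' (c.eq_one_of_fix hkK hodd hkW hzW h.symm)
  intro q hq
  have hq' : k⁻¹ * q * k⁻¹⁻¹ ∈ Q := (mem_normalizer_iff.mp (inv_mem hkNQ) q).mp hq
  refine c.four.fix_all hzW hz2W hz1' hz2ne hz12 (hfix q hq) ?_
  have h3 := hfix _ hq'
  calc q * (k * (z : G) * k⁻¹) * q⁻¹
      = k * ((k⁻¹ * q * k⁻¹⁻¹) * (z : G) * (k⁻¹ * q * k⁻¹⁻¹)⁻¹) * k⁻¹ := by group
    _ = k * (z : G) * k⁻¹ := by rw [h3]

/-- [F4] -/
theorem wOf_le_omega [Finite G] {K Y : Subgroup G} (h : JT K) (s : SN K Y) :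
    wOf K ≤ omegaCenterOf (pCoreOf 2 Y) := by
  obtain ⟨⟨J, S, c⟩, -⟩ := h
  intro w hw
  refine mem_omegaCenterOf ((Ctx.W_le_R K).trans (f_R_le s) hw) ?_ ?_
  · exact le_centralizer_iff.mp (f_Q_le_cent c s) hw
  · rw [pow_two]; exact c.four.sq w hw

theorem f_odd [Finite G] {K Y : Subgroup G} (h : JT K) (s : SN K Y) {k : G} (hk : k ∈ K)
    (hodd : Odd (orderOf k)) {u : G} (hu : u ∈ omegaCenterOf (pCoreOf 2 Y)) :
    k * u * k⁻¹ * u⁻¹ ∈ wOf K := by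
  have hWU := wOf_le_omega h s
  obtain ⟨⟨J, S, c⟩, -⟩ := h
  obtain ⟨U, hU⟩ : ∃ U, U = omegaCenterOf (pCoreOf 2 Y) := ⟨_, rfl⟩
  rw [← hU] at hu hWU
  have hPE : PE 2 U := hU ▸ omegaCenterOf_PE _
  have hkNW : k ∈ normalizer (wOf K : Set G) :=
    (le_normalizer.trans (normalizer_le_normalizer_wOf K)) hk
  have hkNU : k ∈ normalizer (U : Set G) :=
    hU ▸ normalizer_le_normalizer_omegaCenterOf _ (le_normalizer_pCoreOf 2 Y (s.le hk))
  obtain ⟨v, hv⟩ : ∃ v, v = k * u * k⁻¹ * u⁻¹ := ⟨_, rfl⟩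
  rw [← hv]
  have hvU : v ∈ U := by
    rw [hv]
    exact mul_mem ((mem_normalizer_iff.mp hkNU u).mp hu) (inv_mem hu)
  have huQ : u ∈ pCoreOf 2 Y := omegaCenterOf_le _ (hU ▸ hu)
  have hvK : v ∈ K := by
    have h1 : u * k⁻¹ * u⁻¹ ∈ K :=
      (mem_normalizer_iff.mp (f_Q_le_normK c s huQ) _).mp (inv_mem hk)
    have : v = k * (u * k⁻¹ * u⁻¹) := by rw [hv]; group
    rw [this]
    exact mul_mem hk h1
  have hvU0 : v ∈ omegaCenterOf (pCoreOf 2 K) := by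
    have hvQ : v ∈ pCoreOf 2 Y := omegaCenterOf_le _ (hU ▸ hvU)
    refine mem_omegaCenterOf (Helper37.inf_pCoreOf_le s.le ⟨hvK, hvQ⟩) ?_ (hPE.2 v hvU)
    have h2 : v ∈ centralizer (pCoreOf 2 Y : Set G) := omegaCenterOf_le_centralizer _ (hU ▸ hvU)
    exact centralizer_le (SetLike.coe_subset_coe.2 (f_R_le s)) h2
  obtain ⟨w', hw'⟩ : ∃ w', w' = v⁻¹ * k * v * k⁻¹ := ⟨_, rfl⟩
  have hw'W : w' ∈ wOf K := by
    have := Subgroup.commutator_mem_commutator (inv_mem hvU0) hk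
    rw [commutatorElement_def, inv_inv] at this
    rw [hw']; exact this
  have hkv : k * v * k⁻¹ = v * w' := by rw [hw']; group
  have hku : k * u * k⁻¹ = v * u := by rw [hv]; group
  have key : ∀ n : ℕ, ∃ w ∈ wOf K, k ^ n * u * (k ^ n)⁻¹ = v ^ n * w * u := by
    intro n
    induction n with
    | zero => exact ⟨1, one_mem _, by simp⟩
    | succ n ih =>
      obtain ⟨w, hw, hn⟩ := ih
      refine ⟨w' ^ n * (k * w * k⁻¹), mul_mem (pow_mem hw'W n) (Four.conj_mem hkNW hw), ?_⟩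
      have hc1 : Commute v w' := hPE.1 v hvU w' (hWU hw'W)
      have hc2 : Commute (w' ^ n * (k * w * k⁻¹)) v :=
        hPE.1 _ (hWU (mul_mem (pow_mem hw'W n) (Four.conj_mem hkNW hw))) v hvU
      calc k ^ (n + 1) * u * (k ^ (n + 1))⁻¹ = k * (k ^ n * u * (k ^ n)⁻¹) * k⁻¹ := by
            rw [pow_succ']; group
        _ = k * (v ^ n * w * u) * k⁻¹ := by rw [hn]
        _ = (k * v * k⁻¹) ^ n * (k * w * k⁻¹) * (k * u * k⁻¹) := by
            rw [conj_pow]; group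
        _ = v ^ n * ((w' ^ n * (k * w * k⁻¹)) * v) * u := by
            rw [hkv, hku, hc1.mul_pow]; group
        _ = v ^ n * (v * (w' ^ n * (k * w * k⁻¹))) * u := by rw [hc2.eq]
        _ = v ^ (n + 1) * (w' ^ n * (k * w * k⁻¹)) * u := by rw [pow_succ]; group
  obtain ⟨w, hw, hn⟩ := key (orderOf k)
  rw [pow_orderOf_eq_one] at hn
  have h3 : v ^ orderOf k * w = 1 := by
    have : u = (v ^ orderOf k * w) * u := by simpa using hn
    exact (mul_eq_right.mp this.symm)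
  obtain ⟨j, hj⟩ := hodd
  have hv2 : v ^ 2 = 1 := hPE.2 v hvU
  rw [hj, pow_succ, pow_mul, hv2, one_pow, one_mul] at h3
  have : v = w⁻¹ := eq_inv_of_mul_eq_one_left h3
  rw [this]; exact inv_mem hw

/-- [F5] -/
theorem comm_mem_wOf [Finite G] {K Y : Subgroup G} (h : JT K) (s : SN K Y) :
    ∀ k ∈ K, ∀ u ∈ omegaCenterOf (pCoreOf 2 Y), k * u * k⁻¹ * u⁻¹ ∈ wOf K := by
  have hodd : closure {g : G | g ∈ K ∧ Odd (orderOf g)} = K := by
    obtain ⟨⟨J, S, c⟩, -⟩ := h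
    exact c.odd
  have hKNW : K ≤ normalizer (wOf K : Set G) :=
    le_normalizer.trans (normalizer_le_normalizer_wOf K)
  intro k hk
  rw [← hodd] at hk
  induction hk using Subgroup.closure_induction with
  | mem x hx => exact fun u hu => f_odd h s hx.1 hx.2 hu
  | one => intro u _; simp
  | mul x y hx hy ihx ihy =>
    intro u hu
    have hxK : x ∈ K := hodd ▸ hx
    have : x * y * u * (x * y)⁻¹ * u⁻¹ = (x * (y * u * y⁻¹ * u⁻¹) * x⁻¹) * (x * u * x⁻¹ * u⁻¹) := by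
      group
    rw [this]
    exact mul_mem (Four.conj_mem (hKNW hxK) (ihy u hu)) (ihx u hu)
  | inv x hx ih =>
    intro u hu
    have hxK : x ∈ K := hodd ▸ hx
    have : x⁻¹ * u * x⁻¹⁻¹ * u⁻¹ = x⁻¹ * (x * u * x⁻¹ * u⁻¹)⁻¹ * x⁻¹⁻¹ := by group
    rw [this]
    exact Four.conj_mem (hKNW (inv_mem hxK)) (inv_mem (ih u hu))

end Cfsg.Agent.Lib.Helper54.JC45
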