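import Cfsg.Agent.Lib.Helper54.JC45.CJ
import Cfsg.Agent.Lib.Helper54.JC45.F
import Cfsg.Agent.Lib.Helper75.JC45PAIR
import Cfsg.Agent.Lib.Helper15.JC45COUNT
import Cfsg.Agent.S2944

set_option autoImplicit false

namespace Cfsg.Agent.Lib.Helper54.JC45

open Cfsg Subgroup
open Cfsg.Agent.Lib.Helper75.JC Cfsg.Agent.Lib.Helper53.JC Cfsg.Agent.Lib.Helper53
open Cfsg.Agent.Lib.Helper55 (SN)
open Cfsg.Agent.Lib.Helper15.ZJ (AE PE)

variable {G : Type*} [Group G]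

theorem S2945_of [Finite G] (hL : Cfsg.IsCharacteristicTwoType G)
    (hN : ∀ N : Subgroup G, Cfsg.IsTwoLocal N → Group.IsSolvable ↥N)
    (hZ : ∀ S : Sylow 2 G, Subgroup.centralizer (Cfsg.omegaCenterOf (S : Subgroup G) : Set G) ≤
      Subgroup.normalizer ((S : Subgroup G) : Set G)) (T : Subgroup G) (hT : IsPGroup 2 ↥T)
    (hT1 : T ≠ ⊥) (L : Subgroup G) (hLT : L ∈ Cfsg.jOvergroups T)
    (K : Subgroup G) (hKL : K ≤ L)
    (hKsn : (K.subgroupOf (K ⊔ Cfsg.thompsonSubgroupOf 2 T)).IsSubnormal)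
    (g : G) (hKg : K ∈ Cfsg.jComponentsZero (T.map (MulAut.conj g).toMonoidHom)) :
    Cfsg.IsJComponent T K := by
  have hT' : IsPGroup 2 ↥(cjj g T) := isPGroup_cj hT g
  have hT1' : cjj g T ≠ ⊥ := by
    intro h
    apply hT1
    have := cjj_inv_cjj g T
    rw [h] at this
    rw [← this]
    simp
  obtain ⟨hNK, hall⟩ := Cfsg.Agent.S2944.result hL hN hZ (cjj g T) hT' hT1' K hKg
  have key : JJ T ≤ normalizer (wOf K : Set G) → IsJComponent T K := by
    intro h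
    have := hall g⁻¹ (by
      have e : (cjj g T).map (MulAut.conj g⁻¹).toMonoidHom = T := cjj_inv_cjj g T
      rw [e]; exact h)
    have e : (cjj g T).map (MulAut.conj g⁻¹).toMonoidHom = T := cjj_inv_cjj g T
    rwa [e] at this
  apply key
  rw [JJ_le_iff]
  intro A hA
  by_contra hnot
  obtain ⟨S, hS⟩ := exists_ctx hT' hKg.1
  have hJT : JT K := ⟨⟨_, _, hS⟩, hNK.ge⟩
  have hsylT : IsSyl 2 T L := isSylowTwoIn_iff.1 hLT.1
  have hAL : A ∈ AE 2 L := AE_syl hsylT hA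
  have hAJ : A ≤ JJ T := le_JJ hA
  have hsn0 : SN K (K ⊔ JJ T) := SN.of_isSubnormal le_sup_left hKsn
  have hsn : SN K (K ⊔ A) := hsn0.mono le_sup_left (sup_le_sup_left hAJ K)
  obtain ⟨k, hkK, hodd, hkW⟩ := hS.exists_k0
  have hKNW : K ≤ normalizer (wOf K : Set G) :=
    le_normalizer.trans (normalizer_le_normalizer_wOf K)
  have hWa : ∀ a ∈ A, ∀ w ∈ wOf K, a * w * a⁻¹ ∈ wOf (cjj a K) := by
    intro a _ w hw
    rw [← wOf_cj]
    exact ⟨w, hw, rfl⟩
  obtain ⟨E, hE, hEle, hcard⟩ := Cfsg.Agent.Lib.Helper15.JC45.count (A := A) (W := wOf K) (k := k) hA.2.1 hS.four (hKNW hkK)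
    (fun w hw h => hS.eq_one_of_fix hkK hodd hkW hw h)
    (by
      intro a ha w hw v hv
      have h1 : a * w * a⁻¹ ∈ omegaCenterOf (pCoreOf 2 (K ⊔ A)) :=
        wOf_le_omega (JT_cj hJT a) (hsn.conj_mem (mem_sup_right ha)) (hWa a ha w hw)
      have h2 : v ∈ omegaCenterOf (pCoreOf 2 (K ⊔ A)) := wOf_le_omega hJT hsn hv
      exact (omegaCenterOf_PE _).1 _ h1 _ h2)
    (by
      intro a ha haN w hw
      rcases Cfsg.Agent.Lib.Helper75.JC45.pair hJT (JT_cj hJT a) hsn (hsn.conj_mem (mem_sup_right ha)) with h | h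
      · exfalso
        apply haN
        rw [← wOf_cj] at h
        exact cj_eq_self_iff.1 h.symm
      · exact ((mem_centralizer_iff.mp (h.1 hkK)) _ (hWa a ha w hw)).symm)
    hnot
  have hWL : wOf K ≤ L := ((Ctx.W_le_R K).trans (pCoreOf_le 2 K)).trans hKL
  exact absurd (hAL.2.2 E (hEle.trans (sup_le hAL.1 hWL)) hE) (not_le.mpr hcard)

end Cfsg.Agent.Lib.Helper54.JC45
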