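import Cfsg.Agent.Lib.Helper54.JC45.Defs

set_option autoImplicit false

namespace Cfsg.Agent.Lib.Helper54.JC45

open Cfsg Subgroup
open Cfsg.Agent.Lib.Helper75.JC Cfsg.Agent.Lib.Helper53.JC Cfsg.Agent.Lib.Helper53
open Cfsg.Agent.Lib.Helper55 (SN)
open Cfsg.Agent.Lib.Helper15.ZJ (AE PE)

variable {G : Type*} [Group G]

theorem ctx_cj {K J S : Subgroup G} (c : Ctx K J S) (a : G) : Ctx (cjj a K) (cjj a J) (cjj a S) where
  odd := by rw [← oddClosure_cj, c.odd]
  comm := by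
    show ⁅K.map _, J.map _⁆ = K.map _
    rw [← Subgroup.map_commutator, c.comm]
  idx := by
    show (pCoreOf 2 (K.map (MulAut.conj a).toMonoidHom)).relIndex _ = 3
    rw [pCoreOf_cj]
    exact (relIndex_cj a _ _).trans c.idx
  four := by
    rw [← wOf_cj]
    refine ⟨(card_cj _ a).trans c.four.card, ?_⟩
    rintro w ⟨y, hy, rfl⟩
    rw [← map_mul, c.four.sq y hy, map_one]
  syl := by
    have := c.syl.cj a
    rwa [cj_sup] at this
  hJ := by rw [← JJ_cj, c.hJ]

/-- [CJ] -/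
theorem JT_cj {K : Subgroup G} (h : JT K) (a : G) : JT (cjj a K) := by
  obtain ⟨⟨J, S, c⟩, hN⟩ := h
  refine ⟨⟨_, _, ctx_cj c a⟩, ?_⟩
  rw [← wOf_cj]
  show normalizer (((wOf K).map (MulAut.conj a).toMonoidHom : Subgroup G) : Set G) ≤
    normalizer ((K.map (MulAut.conj a).toMonoidHom : Subgroup G) : Set G)
  rw [normalizer_cj, normalizer_cj]
  exact cj_mono a hN

end Cfsg.Agent.Lib.Helper54.JC45
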