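import Cfsg.Agent.Lib.Helper75.JC46
import Cfsg.Agent.Lib.Helper55.RelSN
import Cfsg.Agent.Lib.Helper37.QTFaithful

set_option autoImplicit false

/-! S2945 (K-S ch.12): shared definition of the ladder (paper proof: helper75). -/

namespace Cfsg.Agent.Lib.Helper54.JC45

open Cfsg Subgroup
open Cfsg.Agent.Lib.Helper75.JC Cfsg.Agent.Lib.Helper53.JC

variable {G : Type*} [Group G]

/-- `K` is a J-component (for some `J`) whose four-group `W_K` has `N(W_K) ≤ N(K)`. -/
def JT (K : Subgroup G) : Prop :=
  (∃ J S : Subgroup G, Ctx K J S) ∧ normalizer (wOf K : Set G) ≤ normalizer (K : Set G)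

end Cfsg.Agent.Lib.Helper54.JC45
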